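/-
Abelian Sylow 2-subgroups of rank at least three and solvable involution centralisers: the Sylow subgroup is
normal or the group is almost simple with socle `PSL(2, 2ⁿ)`.
-/
import Cfsg.Agent.BenderSE.Final
import Cfsg.Agent.BenderSE.Dependents.CoreRows
import Cfsg.Agent.BenderSE.Ring2.Tools
import Cfsg.Agent.BenderSE.Ring2.Solvable
import Cfsg.Agent.BenderSE.Ring2.FrameFacts
import Cfsg.Agent.Suz.Lie
import Cfsg.Agent.S0280

set_option autoImplicit false
set_option linter.unusedSectionVars false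
set_option linter.style.haveILetI false

namespace Cfsg.Lib.BenderSE.AbSyl

open Subgroup Cfsg.Lib.InvolCalc Cfsg.Lib.StrongEmb

universe u

variable {G : Type u} [Group G] [Finite G]

/-- the almost simple conclusion -/
def BinarySocle (X : Type*) [Group X] : Prop :=
  ∃ (F : Type) (_ : Field F) (_ : Fintype F), (∃ n : ℕ, 2 ≤ n ∧ Fintype.card F = 2 ^ n) ∧
    ∃ N : Subgroup X, N.Normal ∧ Nonempty (↥N ≃* Matrix.ProjectiveSpecialLinearGroup (Fin 2) F) ∧
      centralizer (N : Set X) = ⊥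

/-- elementary Sylow 2-subgroups: every 2-element squares to one -/
theorem sq_of_two_element (S : Sylow 2 G) (hS : ∀ x ∈ (S : Subgroup G), x * x = 1) {y : G}
    (hy : IsPGroup 2 (zpowers y)) : y * y = 1 := by
  haveI : Fact (Nat.Prime 2) := ⟨Nat.prime_two⟩
  obtain ⟨R, hR⟩ := hy.exists_le_sylow
  obtain ⟨g, hg⟩ := MulAction.exists_smul_eq G R S
  have h : g * y * g⁻¹ ∈ (S : Subgroup G) := by rw [← hg]; exact ⟨y, hR (mem_zpowers y), rfl⟩
  have h1 := hS _ h
  rwa [conj_mul, conj_eq_one_iff] at h1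

/-- an abelian Sylow 2-subgroup in a frame: the socle is linear -/
theorem socle_linear {H L Q : Subgroup G} (F : Frame H L Q) (hS : Setting H)
    (hab : ∀ x ∈ Q, ∀ y ∈ Q, x * y = y * x) : BinarySocle G := by
  haveI : Fact (Nat.Prime 2) := ⟨Nat.prime_two⟩
  have hel := Ring2.frame_elementary_of_abelian F hS hab
  obtain ⟨P, hP⟩ := F.sylow
  have hsq : ∀ y : G, IsPGroup 2 (zpowers y) → y * y = 1 := fun y hy =>
    sq_of_two_element P (fun x hx => hel x (hP ▸ hx)) hy
  rcases F.ident with ⟨K, iK, iK', hn, hf⟩ | ⟨K, iK, iK', m, hm, hK, ⟨f⟩⟩ | ⟨K, iK, iK', n, hn, hK, ⟨f⟩⟩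
  · exact ⟨K, iK, iK', hn, L, F.normal, hf, F.cent⟩
  · exfalso
    let Par : Cfsg.Lib.Suz.Par K m := ⟨hm, hK⟩
    let e := f.trans (Cfsg.Lib.Suz.lieEquiv Par).symm
    set x : Cfsg.Sz K m := Cfsg.Lib.Suz.uu Par 1 0 with hx
    set y : L := e.symm x with hy
    have h4 : y ^ 2 ^ 2 = 1 := by
      rw [hy, ← map_pow, show (2 : ℕ) ^ 2 = 4 from rfl, Cfsg.Lib.Suz.uu_four, map_one]
    have hp : IsPGroup 2 (zpowers (y : G)) := by
      obtain ⟨j, -, hj⟩ := (Nat.dvd_prime_pow Nat.prime_two).1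
        (orderOf_dvd_of_pow_eq_one (show (y : G) ^ 2 ^ 2 = 1 by rw [← Subgroup.coe_pow, h4, Subgroup.coe_one]))
      exact IsPGroup.of_card (n := j) (by rw [Nat.card_zpowers, hj])
    have h2 : y ^ 2 = 1 := Subtype.ext (by rw [Subgroup.coe_pow, pow_two, hsq _ hp, Subgroup.coe_one])
    rw [hy, ← map_pow, MulEquiv.map_eq_one_iff, hx, Cfsg.Lib.Suz.uu_sq, one_pow,
      ← Cfsg.Lib.Suz.uu_zero Par] at h2
    exact one_ne_zero (Cfsg.Lib.Suz.uu_inj Par h2).2
  · exfalso
    have hL := Cfsg.Agent.S0280.result hK 3 (by norm_num)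
    rw [← Nat.card_congr f.toEquiv, Finset.prod_range_succ, Finset.prod_range_succ, Finset.prod_range_succ,
      Finset.prod_range_zero, show 3 * (3 - 1) / 2 = 3 from rfl] at hL
    have heven : Even (2 ^ n) := Nat.even_pow.2 ⟨even_two, by omega⟩
    have hodd : Odd (2 ^ n + 1) := heven.add_one
    have hd : (2 ^ n) ^ 3 ∣ Nat.card L := by
      have h0 : (2 ^ n) ^ 3 ∣ Nat.gcd 3 (2 ^ n + 1) * ((2 ^ n + 1) * Nat.card L) := ⟨_, hL⟩
      rw [← mul_assoc] at h0
      refine (Nat.Coprime.dvd_mul_left ?_).1 h0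
      refine Nat.Coprime.pow_left 3 (Nat.Coprime.pow_left n (Nat.coprime_two_left.2 (Odd.mul ?_ hodd)))
      exact hodd.of_dvd_nat (Nat.gcd_dvd_right _ _)
    have hQ : (2 ^ n) ^ 3 ∣ Nat.card Q := by
      rw [← hP, ← pow_mul]
      exact P.pow_dvd_card_of_pow_dvd_card (by rw [pow_mul]; exact hd.trans (card_subgroup_dvd_card L))
    have hle : Nat.card Q ≤ Nat.card {i : G // orderOf i = 2 ∧ i ∈ H} + 1 := by
      rw [← Finite.card_option]
      classical
      refine Nat.card_le_card_of_injective (fun x : Q => if h : (x : G) = 1 then none else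
        some ⟨(x : G), order_two_of_mul_self (hel x x.2) h, F.qle x.2⟩) fun a b h => ?_
      simp only at h
      split_ifs at h with ha hb
      · exact Subtype.ext (ha.trans hb.symm)
      · exact Subtype.ext (congrArg (fun z : {i : G // orderOf i = 2 ∧ i ∈ H} => (z : G)) (Option.some.inj h) :)
    have h1 := (Nat.le_of_dvd Nat.card_pos hQ).trans (hle.trans (F.unitary K iK iK' n hn hK ⟨f⟩))
    exact absurd h1 (not_le.2 (Nat.pow_lt_pow_right (Nat.one_lt_pow (by omega) one_lt_two) (by norm_num)))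

/-- THE LARGE RANK CASE -/
theorem normal_or_socle (reg : RegProp.{u}) (hO : Cfsg.oddCore G = ⊥) (S : Sylow 2 G)
    (hab : ∀ x ∈ (S : Subgroup G), ∀ y ∈ (S : Subgroup G), x * y = y * x)
    (h3 : ¬ Cfsg.PRankLE 2 2 ↥(S : Subgroup G))
    (hsol : ∀ t : G, orderOf t = 2 → Group.IsSolvable (centralizer ({t} : Set G))) :
    (S : Subgroup G).Normal ∨ BinarySocle G := by
  haveI : Fact (Nat.Prime 2) := ⟨Nat.prime_two⟩
  have htc : IsMulCommutative ↥(⊤ : Subgroup ↥(S : Subgroup G)) :=
    ⟨⟨fun a b => Subtype.ext (Subtype.ext (hab _ (a : (S : Subgroup G)).2 _ (b : (S : Subgroup G)).2))⟩⟩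
  have ht3 : ¬ Cfsg.PRankLE 2 2 ↥(⊤ : Subgroup ↥(S : Subgroup G)) := fun h => h3 fun B hB hB2 => by
    haveI := hB
    have h1 := h (B.map (Subgroup.topEquiv (G := ↥(S : Subgroup G))).symm.toMonoidHom) inferInstance (by
      rintro _ ⟨b, hb, rfl⟩
      rw [← map_pow, hB2 b hb, map_one])
    rwa [card_map_of_injective (Subgroup.topEquiv).symm.injective] at h1
  obtain ⟨hconn, hG3⟩ := CoreRows.connected_of_abelian S ⊤ inferInstance htc ht3
  set M := normalizer ((S : Subgroup G) : Set G) with hM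
  have hC : ∀ t ∈ (S : Subgroup G), orderOf t = 2 → centralizer ({t} : Set G) ≤ M := fun t htS ht =>
    Ring2.le_normalizer_of_charTwo_abelian (Ring2.charTwo_centralizer reg hO hG3 S hconn hsol ht) S
      (fun s hs => mem_centralizer_singleton_iff.2 (hab s hs t htS)) hab
  -- two commuting involutions
  obtain ⟨a, b, ha, hb, hab', hc⟩ : HasCommutingInvolutions G := by
    rw [Cfsg.PRankLE] at h3
    push Not at h3
    obtain ⟨B, -, hB2, hB⟩ := h3
    classical
    haveI := Fintype.ofFinite B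
    have h4 : 2 < Fintype.card B := by
      rw [← Nat.card_eq_fintype_card]; omega
    obtain ⟨a, ha⟩ := Fintype.exists_ne_of_one_lt_card (show 1 < Fintype.card B by omega) (1 : B)
    obtain ⟨b, -, hb⟩ := Finset.exists_mem_notMem_of_card_lt_card
      (s := ({1, a} : Finset B)) (t := Finset.univ) (by
        rw [Finset.card_univ]; exact lt_of_le_of_lt Finset.card_le_two h4)
    simp only [Finset.mem_insert, Finset.mem_singleton, not_or] at hb
    have hinv : ∀ c : B, c ≠ 1 → orderOf ((c : (S : Subgroup G)) : G) = 2 := fun c hc =>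
      order_two_of_mul_self (by
        have := congrArg Subtype.val (hB2 c c.2)
        rwa [Subgroup.coe_pow, pow_two, Subgroup.coe_one] at this)
        fun h => hc (Subtype.ext (Subtype.ext h))
    exact ⟨_, _, hinv a ha, hinv b hb.1, fun h => hb.2 (Subtype.ext (Subtype.ext h)).symm,
      hab _ (a : (S : Subgroup G)).2 _ (b : (S : Subgroup G)).2⟩
  have hev : Even (Nat.card G) := even_iff_two_dvd.2 (ha ▸ orderOf_dvd_natCard a)
  rcases Ring2.normal_or_embedded S le_normalizer hev hC (fun t ht s hs _ g hg =>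
    Ring2.fusion_abelian S hab ht hs hg) with h | h
  · exact Or.inl (Subgroup.normalizer_eq_top_iff.1 h)
  have h2 : HasCommutingInvolutions G := ⟨a, b, ha, hb, hab', hc⟩
  have hset : Setting M := ⟨h, by rw [normalCore_eq_oddCore h h2, hO], h2⟩
  obtain ⟨L, Q, F⟩ := exists_frame reg hset
  refine Or.inr (socle_linear F hset ?_)
  have hQS : Q ≤ (S : Subgroup G) := by
    have h1 : Q ⊓ M = Q ⊓ (S : Subgroup G) := F.q2.inf_normalizer_sylow S
    rw [inf_of_le_left F.qle] at h1
    exact h1.le.trans inf_le_right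
  exact fun x hx y hy => hab x (hQS hx) y (hQS hy)

end Cfsg.Lib.BenderSE.AbSyl
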