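/-
An abelian Sylow 2-subgroup of rank at most two: its normaliser centralises it or it is homocyclic.
-/
import Cfsg.Agent.InvolCalc.MetacyclicFrame
import Cfsg.Agent.Transfer.Basic
import Cfsg.Agent.PGroups.Basic
import Cfsg.Agent.BenderSE.Ring2.Solvable

set_option autoImplicit false
set_option linter.unusedSectionVars false
set_option linter.style.haveILetI false

namespace Cfsg.Lib.BenderSE.AbSyl

open Subgroup

universe u

variable {G : Type u} [Group G] [Finite G]

/-- an abelian 2-group of rank at most two has two generators -/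
theorem exists_pair {R : Type u} [Group R] [Finite R] (hR : IsPGroup 2 R) (hab : ∀ a b : R, a * b = b * a)
    (h2 : Cfsg.PRankLE 2 2 R) : ∃ a b : R, closure ({a, b} : Set R) = ⊤ := by
  haveI : Fact (Nat.Prime 2) := ⟨Nat.prime_two⟩
  haveI hRc : IsMulCommutative R := ⟨⟨hab⟩⟩
  let sq : R →* R := MonoidHom.mk' (fun x => x * x) fun x y => by
    show x * y * (x * y) = x * x * (y * y)
    rw [mul_assoc x y, ← mul_assoc y x y, hab y x]; group
  have hker : Nat.card sq.ker ≤ 4 := h2 sq.ker inferInstance fun x hx => by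
    rw [pow_two]; exact hx
  have hcard : Nat.card R ≤ 4 * Nat.card sq.range := by
    rw [← sq.ker.card_mul_index, Subgroup.index_ker]
    exact Nat.mul_le_mul_right _ hker
  have hfr : sq.range ≤ frattini R := by
    rintro _ ⟨x, rfl⟩
    show x * x ∈ frattini R
    rw [← pow_two]
    exact Cfsg.Lib.PGroups.pow_mem_frattini hR x
  have hdouble : ∀ (K : Subgroup R) (x : R), x ∉ K → 2 * Nat.card K ≤ Nat.card ↥(K ⊔ zpowers x) := by
    intro K x hx
    obtain ⟨c, hc⟩ := card_dvd_of_le (le_sup_left : K ≤ K ⊔ zpowers x)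
    rcases Nat.lt_or_ge c 2 with h | h
    · exfalso
      interval_cases c
      · rw [Nat.mul_zero] at hc; exact absurd hc Nat.card_pos.ne'
      · exact hx ((eq_of_le_of_card_ge (le_sup_left : K ≤ K ⊔ zpowers x) (by omega)).ge
          (mem_sup_right (mem_zpowers x)))
    · rw [hc, mul_comm (Nat.card K)]
      exact Nat.mul_le_mul_right _ h
  suffices key : ∃ a b : R, sq.range ⊔ closure ({a, b} : Set R) = ⊤ by
    obtain ⟨a, b, h⟩ := key
    refine ⟨a, b, frattini_nongenerating (eq_top_iff.2 ?_)⟩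
    rw [← h]
    exact sup_le (hfr.trans le_sup_right) le_sup_left
  by_cases htop : sq.range = ⊤
  · exact ⟨1, 1, by rw [htop]; exact top_sup_eq _⟩
  obtain ⟨a, ha⟩ : ∃ a, a ∉ sq.range := by
    by_contra h; push Not at h; exact htop ((eq_top_iff' _).2 h)
  by_cases htop1 : sq.range ⊔ zpowers a = ⊤
  · exact ⟨a, a, top_le_iff.1 (htop1.ge.trans (sup_le_sup_left (zpowers_le.2 (subset_closure (by simp))) _))⟩
  obtain ⟨b, hb⟩ : ∃ b, b ∉ sq.range ⊔ zpowers a := by
    by_contra h; push Not at h; exact htop1 ((eq_top_iff' _).2 h)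
  refine ⟨a, b, ?_⟩
  have h1 := hdouble _ a ha
  have h2 := hdouble _ b hb
  have hle : sq.range ⊔ zpowers a ⊔ zpowers b ≤ sq.range ⊔ closure ({a, b} : Set R) :=
    sup_le (sup_le_sup_left (zpowers_le.2 (subset_closure (by simp))) _)
      ((zpowers_le.2 (subset_closure (by simp))).trans le_sup_right)
  have htop2 : sq.range ⊔ zpowers a ⊔ zpowers b = ⊤ :=
    eq_top_of_le_card _ (by omega)
  exact top_le_iff.1 (htop2.ge.trans hle)

/-- Burnside: a central Sylow 2-subgroup of its normaliser makes the group solvable -/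
theorem solvable_of_normalizer_le (S : Sylow 2 G)
    (h : normalizer ((S : Subgroup G) : Set G) ≤ centralizer ((S : Subgroup G) : Set G)) :
    Group.IsSolvable G := by
  haveI : Fact (Nat.Prime 2) := ⟨Nat.prime_two⟩
  have hK := MonoidHom.ker_transferSylow_isComplement' S h
  set K := (MonoidHom.transferSylow S h).ker
  obtain ⟨hcop, -⟩ := Cfsg.Lib.Transfer.complement_props hK
  refine Ring2.solvable_of_quot K (Cfsg.Agent.PF.isSolvable_of_odd _ (Nat.coprime_two_right.1 hcop)) ?_
  haveI : IsPGroup 2 ↥(S : Subgroup G) → Group.IsSolvable ↥(S : Subgroup G) := fun h => by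
    haveI := h.isNilpotent; infer_instance
  haveI := this S.2
  exact Group.isSolvable_of_surjective (f := hK.symm.QuotientMulEquiv.symm.toMonoidHom)
    hK.symm.QuotientMulEquiv.symm.surjective

/-- THE RANK TWO ALTERNATIVE -/
theorem homocyclic_or_solvable (S : Sylow 2 G)
    (hab : ∀ x ∈ (S : Subgroup G), ∀ y ∈ (S : Subgroup G), x * y = y * x)
    (h2 : Cfsg.PRankLE 2 2 ↥(S : Subgroup G)) :
    Group.IsSolvable G ∨
      ∃ m : ℕ, 1 ≤ m ∧ Nonempty (↥(S : Subgroup G) ≃* Multiplicative (ZMod (2 ^ m) × ZMod (2 ^ m))) := by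
  haveI : Fact (Nat.Prime 2) := ⟨Nat.prime_two⟩
  by_cases hNC : normalizer ((S : Subgroup G) : Set G) ≤ centralizer ((S : Subgroup G) : Set G)
  · exact Or.inl (solvable_of_normalizer_le S hNC)
  right
  have hS1 : (S : Subgroup G) ≠ ⊥ := fun h => hNC fun g _ => mem_centralizer_iff.2 fun x hx => by
    rw [SetLike.mem_coe, h, mem_bot] at hx
    rw [hx, one_mul, mul_one]
  have hcyc : ¬ IsCyclic ↥(S : Subgroup G) := fun hc => hNC (by
    refine IsCyclic.normalizer_le_centralizer (P := S) ?_ hc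
    refine (Nat.minFac_eq_two_iff _).2 ?_
    haveI := (nontrivial_iff_ne_bot _).2 hS1
    obtain ⟨n, hn0, hn⟩ := S.2.exists_card_eq.imp fun n hn => (⟨fun h => by
      rw [h, pow_zero] at hn
      exact absurd hn (Finite.one_lt_card (α := ↥(S : Subgroup G))).ne', hn⟩ : n ≠ 0 ∧ _)
    exact ((dvd_pow_self 2 hn0).trans hn.symm.dvd).trans (card_subgroup_dvd_card _))
  set N := normalizer ((S : Subgroup G) : Set G) with hN
  set A := (S : Subgroup G).subgroupOf N with hA
  haveI hAn : A.Normal := (normal_subgroupOf_iff_le_normalizer le_normalizer).2 le_rfl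
  let e : A ≃* ↥(S : Subgroup G) := subgroupOfEquivOfLe le_normalizer
  have hAp : IsPGroup 2 A := S.2.of_equiv e.symm
  set f : N →* MulAut A := MulAut.conjNormal with hf
  have hAker : A ≤ f.ker := fun a ha => MonoidHom.mem_ker.2 (by
    ext x
    rw [hf, MulAut.conjNormal_apply]
    show (a : G) * ((x : N) : G) * (a : G)⁻¹ = ((x : N) : G)
    exact mul_inv_eq_iff_eq_mul.2 (hab _ ha _ x.2))
  obtain ⟨n, hn⟩ : ∃ n : N, f n ≠ 1 := by
    by_contra h
    push Not at h
    refine hNC fun g hg => mem_centralizer_iff.2 fun x hx => ?_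
    have h1 := congrArg (fun y : A => ((y : N) : G)) (DFunLike.congr_fun (h ⟨g, hg⟩) ⟨⟨x, le_normalizer hx⟩, hx⟩)
    simp only [hf, MulAut.conjNormal_apply, MulAut.one_apply] at h1
    exact (mul_inv_eq_iff_eq_mul.1 h1).symm
  have hodd : Odd (orderOf (f n)) := by
    have h1 : Odd A.index := Nat.not_even_iff_odd.1 fun h => S.not_dvd_index
      (h.two_dvd.trans (relIndex_dvd_index_of_le (le_normalizer : (S : Subgroup G) ≤ N)))
    refine h1.of_dvd_nat (dvd_trans ?_ (index_dvd_of_le hAker))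
    rw [Subgroup.index_ker]
    exact Subgroup.orderOf_dvd_natCard _ ⟨n, rfl⟩
  obtain ⟨a, b, hgen⟩ := exists_pair hAp (fun x y => Subtype.ext (Subtype.ext (hab _ x.2 _ y.2))) (fun B hB hB2 => by
    haveI := hB
    have h := h2 (B.map e.toMonoidHom) inferInstance (by
      rintro _ ⟨c, hc, rfl⟩
      rw [← map_pow, hB2 c hc, map_one])
    rwa [card_map_of_injective e.injective] at h)
  have hAcyc : ¬ IsCyclic A := fun h => hcyc (e.isCyclic.1 h)
  have hcom : commutator A = ⊥ := by
    haveI : IsMulCommutative A := ⟨⟨fun x y => Subtype.ext (Subtype.ext (hab _ x.2 _ y.2))⟩⟩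
    exact (commutator_eq_bot_iff_center_eq_top A).2 (eq_top_iff.2 fun x _ => mem_center_iff.2 fun y => mul_comm' y x)
  obtain ⟨m, hm, ⟨g⟩⟩ := Cfsg.Lib.InvolCalc.MetaFrame.homocyclic hAp hgen hAcyc hcom (f n) hodd hn
  refine ⟨m, ?_, ⟨e.symm.trans g⟩⟩
  by_contra hm0
  obtain rfl : m = 0 := by omega
  have hc1 : Nat.card A = 1 := by
    rw [Nat.card_congr g.toEquiv, Nat.card_congr Multiplicative.toAdd, Nat.card_prod, Nat.card_zmod]
    norm_num
  rw [Nat.card_congr e.toEquiv] at hc1
  exact hS1 (Subgroup.card_eq_one.1 hc1)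

end Cfsg.Lib.BenderSE.AbSyl
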