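/-
Abelian Sylow 2-subgroups and solvable involution centralisers (row 3188), from the four-group theorem.
-/
import Cfsg.Agent.BenderSE.AbelianSylow.Large
import Cfsg.Agent.BenderSE.AbelianSylow.RankTwo
import Cfsg.Agent.GWFour.Consumers.Target
import Cfsg.Agent.Components.BalanceDelta
import Cfsg.Agent.S0949

set_option autoImplicit false
set_option linter.unusedSectionVars false
set_option linter.style.haveILetI false

namespace Cfsg.Lib.BenderSE.AbSyl

open Subgroup

universe u

variable {G : Type u} [Group G] [Finite G]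

theorem klein_sq : ∀ x : Multiplicative (ZMod (2 ^ 1) × ZMod (2 ^ 1)), x ^ 2 = 1 := by decide

/-- solvable involution centralisers pass to the quotient by the odd core -/
theorem solvable_centralizers_quot
    (hC : ∀ t : G, orderOf t = 2 → Group.IsSolvable ↥(centralizer ({t} : Set G))) :
    ∀ t : G ⧸ Cfsg.oddCore G, orderOf t = 2 → Group.IsSolvable ↥(centralizer ({t} : Set (G ⧸ Cfsg.oddCore G))) := by
  haveI : Fact (Nat.Prime 2) := ⟨Nat.prime_two⟩
  intro t ht
  obtain ⟨x, rfl⟩ := QuotientGroup.mk'_surjective (Cfsg.oddCore G) t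
  set π := QuotientGroup.mk' (Cfsg.oddCore G) with hπ
  have ht1 : π x ^ 2 = 1 := orderOf_dvd_iff_pow_eq_one.1 ht.dvd
  have hxx : x ^ 2 ∈ Cfsg.oddCore G := (QuotientGroup.eq_one_iff _).1 (show π (x ^ 2) = 1 by
    rw [map_pow]; exact ht1)
  obtain ⟨m, hm⟩ := (Ring2.odd_oddCore (G := G)).of_dvd_nat (Subgroup.orderOf_dvd_natCard _ hxx)
  set s := x ^ (2 * m + 1) with hs
  have hπs : π s = π x := by
    rw [hs, map_pow, pow_succ, pow_mul, ht1, one_pow, one_mul]
  have hs2 : orderOf s = 2 := orderOf_eq_prime (by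
    rw [hs, ← pow_mul, mul_comm, pow_mul, ← hm, pow_orderOf_eq_one]) fun h => by
      rw [h, map_one] at hπs
      rw [← hπs, orderOf_one] at ht
      exact absurd ht (by decide)
  have hb : IsPGroup 2 (zpowers s) := IsPGroup.of_card (n := 1) (by rw [pow_one, Nat.card_zpowers, hs2])
  rw [← hπs, ← Cfsg.Lib.Components.centralizer_map_of_coprime_ker (p := 2)
    (QuotientGroup.mk'_surjective _) (by
      rw [QuotientGroup.ker_mk']; exact Cfsg.Lib.Components.coprime_card_pPrimeCore 2) hb]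
  haveI := hC s hs2
  exact Group.isSolvable_of_surjective (f := π.subgroupMap _) (MonoidHom.subgroupMap_surjective _ _)

/-- ROW 3188 -/
theorem solvable_centralizers_abelian (hF : Cfsg.Lib.GWFour.FourGroupProp.{u}) (reg : RegProp.{u})
    (S : Sylow 2 G) (hS : IsMulCommutative ↥(S : Subgroup G))
    (hC : ∀ t : G, orderOf t = 2 → Group.IsSolvable ↥(centralizer ({t} : Set G))) :
    Group.IsSolvable G ∨
      ∃ (F : Type) (_ : Field F) (_ : Fintype F),
        (((Fintype.card F % 8 = 3 ∨ Fintype.card F % 8 = 5) ∧ 5 ≤ Fintype.card F) ∨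
          (∃ n : ℕ, 2 ≤ n ∧ Fintype.card F = 2 ^ n)) ∧
        ∃ N : Subgroup (G ⧸ Cfsg.oddCore G), N.Normal ∧
          Nonempty (↥N ≃* Matrix.ProjectiveSpecialLinearGroup (Fin 2) F) ∧
          centralizer (N : Set (G ⧸ Cfsg.oddCore G)) = ⊥ := by
  haveI : Fact (Nat.Prime 2) := ⟨Nat.prime_two⟩
  haveI := hS
  have hab : ∀ x ∈ (S : Subgroup G), ∀ y ∈ (S : Subgroup G), x * y = y * x := fun x hx y hy =>
    congrArg Subtype.val (mul_comm' (⟨x, hx⟩ : (S : Subgroup G)) ⟨y, hy⟩)
  set π := QuotientGroup.mk' (Cfsg.oddCore G) with hπ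
  set T : Sylow 2 (G ⧸ Cfsg.oddCore G) := S.mapSurjective (QuotientGroup.mk'_surjective _) with hT
  have hinj : Function.Injective (π.comp (S : Subgroup G).subtype) := by
    rw [injective_iff_map_eq_one]
    intro x hx
    exact Subtype.ext ((Ring2.pow_eq_one_iff_quot S _ Ring2.odd_oddCore x.2).1 hx)
  let e : ↥(S : Subgroup G) ≃* ↥(T : Subgroup (G ⧸ Cfsg.oddCore G)) :=
    (MonoidHom.ofInjective hinj).trans (MulEquiv.subgroupCongr (by
      rw [MonoidHom.range_comp, Subgroup.range_subtype]; rfl))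
  have habT : ∀ x ∈ (T : Subgroup (G ⧸ Cfsg.oddCore G)), ∀ y ∈ (T : Subgroup (G ⧸ Cfsg.oddCore G)),
      x * y = y * x := fun x hx y hy => congrArg Subtype.val
    (show (⟨x, hx⟩ : ↥(T : Subgroup (G ⧸ Cfsg.oddCore G))) * ⟨y, hy⟩ = ⟨y, hy⟩ * ⟨x, hx⟩ from
      e.symm.injective (by rw [map_mul, map_mul, mul_comm']))
  have hsolv : Group.IsSolvable (G ⧸ Cfsg.oddCore G) → Group.IsSolvable G :=
    Ring2.solvable_of_quot _ (Cfsg.Agent.PF.isSolvable_of_odd _ Ring2.odd_oddCore)
  by_cases h2 : Cfsg.PRankLE 2 2 ↥(S : Subgroup G)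
  · rcases homocyclic_or_solvable S hab h2 with h | ⟨m, hm, ⟨g⟩⟩
    · exact Or.inl h
    rcases eq_or_lt_of_le hm with rfl | hm2
    · by_cases hs : Group.IsSolvable G
      · exact Or.inl hs
      have hK : IsKleinFour ↥(S : Subgroup G) := by
        refine ⟨by rw [Nat.card_congr g.toEquiv, Nat.card_congr Multiplicative.toAdd, Nat.card_prod,
          Nat.card_zmod]; norm_num, ?_⟩
        rw [Monoid.exponent_eq_of_mulEquiv g]
        haveI : Nontrivial (Multiplicative (ZMod (2 ^ 1) × ZMod (2 ^ 1))) :=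
          ⟨⟨1, Multiplicative.ofAdd (1, 0), by rw [ne_eq, eq_comm, ofAdd_eq_one, Prod.mk_eq_zero]; simp⟩⟩
        refine (Monoid.exponent_eq_prime_iff Nat.prime_two).2 fun x hx => orderOf_eq_prime ?_ hx
        clear hx
        exact klein_sq x
      
      obtain ⟨F, i1, i2, h8, h5, N, hN, -, he, hc⟩ := Cfsg.Lib.GWFour.almost_simple hF S hK hs
      exact Or.inr ⟨F, i1, i2, Or.inl ⟨h8, h5⟩, N, hN, he, hc⟩
    · refine Or.inl (hsolv (Ring2.solvable_of_normal_sylow T ?_))
      exact (Cfsg.Agent.S0949.result T m hm2 (e.symm.trans g) fun N hN hodd => by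
        haveI := hN
        exact le_bot_iff.1 ((Ring2.oddCore_eq_bot_quot (G := G)) ▸
          Cfsg.Lib.Components.le_pPrimeCore (Nat.coprime_two_right.2 hodd))).1
  · have h3 : ¬ Cfsg.PRankLE 2 2 ↥(T : Subgroup (G ⧸ Cfsg.oddCore G)) := fun h => h2 fun B hB hB2 => by
      haveI := hB
      have h1 := h (B.map e.toMonoidHom) inferInstance (by
        rintro _ ⟨b, hb, rfl⟩
        rw [← map_pow, hB2 b hb, map_one])
      rwa [card_map_of_injective e.injective] at h1
    rcases normal_or_socle reg Ring2.oddCore_eq_bot_quot T habT h3 (solvable_centralizers_quot hC) with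
      h | ⟨F, i1, i2, hn, N, hN, he, hc⟩
    · exact Or.inl (hsolv (Ring2.solvable_of_normal_sylow T h))
    · exact Or.inr ⟨F, i1, i2, Or.inr hn, N, hN, he, hc⟩

end Cfsg.Lib.BenderSE.AbSyl
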